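import Groth.Prelude.Def_UnitsSh
import Groth.Prelude.Def_ClSub2
import Groth.Agent.CohBase.Push
import Groth.Agent.CohBase.Affine
import Groth.Agent.QCohLib.Exact
import Groth.Agent.RelTildeLib.Morph
import Groth.Agent.OmegaAffLib.Main
import Groth.Agent.PicRootLib.Roots

/-! The units sequence of a square zero thickening. -/

set_option autoImplicit false
set_option linter.style.haveILetI false
set_option backward.isDefEq.respectTransparency false

universe u

open CategoryTheory CategoryTheory.Limits AlgebraicGeometry TopologicalSpace Opposite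
open Groth.Agent.CohBase

noncomputable section

namespace Groth.Agent.PicDefLib

variable {X : Scheme.{u}} (I : X.IdealSheafData)

theorem surjective_subschemeι (hI : I * I = ⊥) : Surjective I.subschemeι := by
  refine ⟨fun x => ?_⟩
  have h : x ∈ Set.range I.subschemeι := by
    rw [I.range_subschemeι]
    refine Scheme.IdealSheafData.mem_support_iff.2 fun U => ?_
    rw [Scheme.mem_zeroLocus_iff]
    intro s hs
    have h2 : s * s ∈ (I * I).ideal U := Ideal.mul_mem_mul hs hs
    rw [hI] at h2
    have h3 : s * s = 0 := h2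
    intro hmem
    have h4 : x ∈ X.basicOpen (s * s) := by rw [Scheme.basicOpen_mul]; exact ⟨hmem, hmem⟩
    rw [h3, Scheme.basicOpen_zero] at h4
    exact h4
  exact h

theorem ker_app (U : X.Opens) (a : Γ(X, U)) :
    (ClSub.toSubscheme I).app U a = I.subschemeι.app U a := rfl

/-- The inclusion of the ideal module on sections. -/
def incl (U : X.Opens) : Γ(ClSub.idealMod I, U) →+ Γ(X, U) := ((ClSub.idealModι I).app U).hom

theorem exists_idealMod {U : X.Opens} {a : Γ(X, U)} (h : I.subschemeι.app U a = 0) :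
    ∃ t, incl I U t = a := QCohLib.kernel_app_exact (ClSub.toSubscheme I) U a h

theorem incl_res {U V : X.Opens} (h : V ≤ U) (t : Γ(ClSub.idealMod I, U)) :
    incl I V ((ClSub.idealMod I).presheaf.map (homOfLE h).op t) = X.presheaf.map (homOfLE h).op (incl I U t) :=
  ConcreteCategory.congr_hom ((ClSub.idealModι I).mapPresheaf.naturality (homOfLE h).op) t

theorem app_idealModι {U : X.Opens} (t : Γ(ClSub.idealMod I, U)) :
    I.subschemeι.app U (incl I U t) = 0 :=
  ConcreteCategory.congr_hom (congrArg (fun z => Scheme.Modules.Hom.app z U) (kernel.condition (ClSub.toSubscheme I))) t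

theorem mul_eq_zero (hI : I * I = ⊥) {U : X.Opens} {a b : Γ(X, U)}
    (ha : I.subschemeι.app U a = 0) (hb : I.subschemeι.app U b = 0) : a * b = 0 := by
  refine X.sheaf.eq_of_locally_eq' (fun W : {W : X.Opens // IsAffineOpen W ∧ W ≤ U} => W.1) U
    (fun W => homOfLE W.2.2) (fun x hx => by
      obtain ⟨W, hW, hxW, hle⟩ := exists_isAffineOpen_mem_and_subset hx
      exact Opens.mem_iSup.2 ⟨⟨W, hW, hle⟩, hxW⟩) _ _ fun W => ?_
  have mem : ∀ c : Γ(X, U), I.subschemeι.app U c = 0 → X.presheaf.map (homOfLE W.2.2).op c ∈ I.ideal ⟨W.1, W.2.1⟩ := by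
    intro c hc
    rw [← I.ker_subschemeι, Scheme.Hom.ker_apply, RingHom.mem_ker]
    refine (PicRootLib.app_res I.subschemeι W.2.2 c).trans ?_
    rw [hc, map_zero]
  have h2 : X.presheaf.map (homOfLE W.2.2).op a * X.presheaf.map (homOfLE W.2.2).op b ∈ (I * I).ideal ⟨W.1, W.2.1⟩ :=
    Ideal.mul_mem_mul (mem a ha) (mem b hb)
  rw [hI] at h2
  show X.presheaf.map (homOfLE W.2.2).op (a * b) = X.presheaf.map (homOfLE W.2.2).op 0
  rw [map_zero, map_mul]
  exact h2

variable (hI : I * I = ⊥)
include hI

/-- The unit `1 + t`. -/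
def onePlus {U : X.Opens} (t : Γ(ClSub.idealMod I, U)) : Γ(X, U)ˣ where
  val := 1 + incl I U t
  inv := 1 - incl I U t
  val_inv := by
    ring_nf
    rw [sq, mul_eq_zero I hI (app_idealModι I t) (app_idealModι I t), sub_zero]
  inv_val := by
    ring_nf
    rw [sq, mul_eq_zero I hI (app_idealModι I t) (app_idealModι I t), sub_zero]

theorem onePlus_add {U : X.Opens} (s t : Γ(ClSub.idealMod I, U)) :
    onePlus I hI (s + t) = onePlus I hI s * onePlus I hI t := by
  refine Units.ext ?_
  show 1 + incl I U (s + t) = (1 + _) * (1 + _)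
  rw [map_add, add_mul, one_mul, mul_add, mul_one, mul_eq_zero I hI (app_idealModι I s) (app_idealModι I t)]
  ring

/-- `t ↦ 1 + t`. -/
def expHom : Coh.toAb (ClSub.idealMod I) ⟶ UnitsSh.unitsAb X :=
  ⟨{ app := fun U => AddCommGrpCat.ofHom (AddMonoidHom.mk'
        (fun t => Additive.ofMul (onePlus I hI (U := U.unop) t)) fun s t => congrArg Additive.ofMul (onePlus_add I hI s t))
     naturality := fun U V g => by
       ext t
       refine congrArg Additive.ofMul (Units.ext ?_)
       show 1 + incl I V.unop ((ClSub.idealMod I).presheaf.map g t) =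
         X.presheaf.map g (1 + incl I U.unop t)
       rw [map_add, map_one]
       exact congrArg (1 + ·) (ConcreteCategory.congr_hom ((ClSub.idealModι I).mapPresheaf.naturality g) t) }⟩

/-- The units sequence. -/
def seq : ShortComplex (AbSh X) :=
  ShortComplex.mk (expHom I hI) (UnitsSh.comap I.subschemeι) (by
    ext U t
    refine congrArg Additive.ofMul (Units.ext ?_)
    show I.subschemeι.app U.unop (1 + incl I U.unop t) = 1
    rw [map_add, map_one, app_idealModι, add_zero])

theorem seq_shortExact : (seq I hI).ShortExact := by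
  haveI := surjective_subschemeι I hI
  refine ShortComplex.ShortExact.mk' (exact_of_local _ fun W s hs x hx => ⟨W, le_rfl, hx, ?_⟩) ?_
    (epi_of_local _ fun W s x hx => ?_)
  · have h1 : I.subschemeι.app W ((UnitsSh.unitOfSect s : Γ(X, W)ˣ) : Γ(X, W)) = 1 :=
      congrArg (fun z => ((Additive.toMul z : Γ(I.subscheme, I.subschemeι ⁻¹ᵁ W)ˣ) : Γ(I.subscheme, I.subschemeι ⁻¹ᵁ W))) hs
    obtain ⟨t, ht⟩ := exists_idealMod I (U := W)
      (a := ((UnitsSh.unitOfSect s : Γ(X, W)ˣ) : Γ(X, W)) - 1) (by rw [map_sub, h1, map_one, sub_self])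
    refine ⟨t, Eq.trans ?_ (res_self _ _ _).symm⟩
    refine congrArg Additive.ofMul (Units.ext ?_)
    show 1 + incl I W t = _
    rw [ht, add_sub_cancel]
    rfl
  · refine ⟨fun {Z} g h e => ?_⟩
    ext W s
    haveI : Mono (ClSub.idealModι I) := inferInstanceAs (Mono (kernel.ι _))
    refine RelTildeLib.app_injective_of_mono (ClSub.idealModι I) W.unop (add_left_cancel (a := (1 : Γ(X, W.unop))) ?_)
    exact congrArg (fun φ => ((Additive.toMul (φ.hom.app W s) : Γ(X, W.unop)ˣ) : Γ(X, W.unop))) e
  · obtain ⟨V, hV, hxV, hle⟩ := exists_isAffineOpen_mem_and_subset hx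
    let c : Γ(I.subscheme, I.subschemeι ⁻¹ᵁ V)ˣ :=
      Additive.toMul (res (seq I hI).X₃.obj hle s)
    obtain ⟨a, ha, hac⟩ := PicRootLib.exists_unit_lift I.subschemeι hV c.isUnit
    refine ⟨V, hle, hxV, Additive.ofMul ha.unit, ?_⟩
    refine congrArg Additive.ofMul (Units.ext ?_)
    exact hac

theorem subsingleton_loc {U : X.Opens} (hU : IsAffineOpen U) :
    Subsingleton (HU U (seq I hI).X₁ 1) := by
  haveI := OmegaAffLib.isQCoh_idealMod I
  exact affine_vanishing (ClSub.idealMod I) hU 0

theorem subsingleton_top {n : ℕ} [Subsingleton (Coh.HH X (ClSub.idealMod I) n)] :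
    Subsingleton (HU (⊤ : X.Opens) (seq I hI).X₁ n) :=
  (HHEquiv (ClSub.idealMod I) n).symm.toEquiv.subsingleton

end Groth.Agent.PicDefLib
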