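import Groth.Agent.PicDefLib.Cech
import Groth.Agent.PicDefLib.Seq
import Groth.Agent.ParaFLib.Cocycle
import Groth.Agent.PicRootLib.Main

/-! Invertible modules on a square zero thickening. -/

set_option autoImplicit false
set_option linter.style.haveILetI false
set_option backward.isDefEq.respectTransparency false

universe u

open CategoryTheory CategoryTheory.Limits AlgebraicGeometry TopologicalSpace Opposite
open Groth.Agent.ParaFLib Groth.Agent.PullbackMod Groth.Agent.CohBase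

noncomputable section

namespace Groth.Agent.PicDefLib

variable {X : Scheme.{u}}

/-- Restriction of units. -/
abbrev ures {U V : X.Opens} (h : V ≤ U) : Γ(X, U)ˣ →* Γ(X, V)ˣ :=
  Units.map (X.presheaf.map (homOfLE h).op).hom.toMonoidHom

theorem exists_gen_cover {L M : X.Modules} (hL : PicF.IsInvertible L) (hM : PicF.IsInvertible M) :
    ∃ U : X → X.Opens, iSup U = ⊤ ∧ (∀ x, IsAffineOpen (U x)) ∧
      ∃ (s : ∀ x, Γ(L, U x)) (t : ∀ x, Γ(M, U x)), (∀ x, Gen (U x) (s x)) ∧ ∀ x, Gen (U x) (t x) := by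
  have h : ∀ x : X, ∃ (U : X.Opens) (s : Γ(L, U)) (t : Γ(M, U)), x ∈ U ∧ IsAffineOpen U ∧ Gen U s ∧ Gen U t := fun x => by
    obtain ⟨W, s, hx, hs⟩ := exists_gen_nhd hL x
    obtain ⟨W', t, hx', ht⟩ := exists_gen_nhd hM x
    obtain ⟨U, hU, hxU, hle⟩ := exists_isAffineOpen_mem_and_subset (U := W ⊓ W') ⟨hx, hx'⟩
    exact ⟨U, _, _, hxU, hU, hs.res (fun y hy => (hle hy).1), ht.res (fun y hy => (hle hy).2)⟩
  choose U s t hx hU hs ht using h
  exact ⟨U, eq_top_iff.2 fun x _ => Opens.mem_iSup.2 ⟨x, hx x⟩, hU, s, t, hs, ht⟩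

theorem exists_transition {L : X.Modules} {κ : Type u} {U : κ → X.Opens} {s : ∀ a, Γ(L, U a)}
    (hs : ∀ a, Gen (U a) (s a)) :
    ∃ η : ∀ a b, Γ(X, U a ⊓ U b)ˣ, ParaFLib.IsCocycle U η ∧
      ∀ a b, L.presheaf.map (homOfLE (inf_le_left : U a ⊓ U b ≤ U a)).op (s a) =
        (η a b : Γ(X, U a ⊓ U b)) • L.presheaf.map (homOfLE (inf_le_right : U a ⊓ U b ≤ U b)).op (s b) := by
  choose r hru hr using fun a b => ((hs a).res (inf_le_left : U a ⊓ U b ≤ U a)).exists_unit ((hs b).res inf_le_right)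
  refine ⟨fun a b => (hru a b).unit, fun a b d => ?_, fun a b => (hr a b).symm⟩
  have hT : U a ⊓ U b ⊓ U d ≤ U d := inf_le_right
  refine (((hs d).res hT) _ le_rfl).1 ?_
  simp only [res_res, IsUnit.unit_spec, mul_smul]
  have e1 := congrArg (L.presheaf.map (homOfLE (inf_le_inf_right (U d) inf_le_left : U a ⊓ U b ⊓ U d ≤ U a ⊓ U d)).op) (hr a d)
  have e2 := congrArg (L.presheaf.map (homOfLE (inf_le_left : U a ⊓ U b ⊓ U d ≤ U a ⊓ U b)).op) (hr a b)
  have e3 := congrArg (L.presheaf.map (homOfLE (inf_le_inf_right (U d) inf_le_right : U a ⊓ U b ⊓ U d ≤ U b ⊓ U d)).op) (hr b d)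
  simp only [L.map_smul, res_res] at e1 e2 e3
  rw [e1, e3, e2]

variable (I : X.IdealSheafData) (hI : I * I = ⊥)

/-- Read units as sections of the units sheaf. -/
abbrev mkS {U : X.Opens} (v : Γ(X, U)ˣ) : (seq I hI).X₂.obj.obj (op U) := Additive.ofMul v

/-- Read units on the subscheme. -/
abbrev mkS₀ {U : X.Opens} (v : Γ(I.subscheme, I.subschemeι ⁻¹ᵁ U)ˣ) : (seq I hI).X₃.obj.obj (op U) := Additive.ofMul v

include hI in
theorem nonempty_iso_of_pullback [Subsingleton (Coh.HH X (ClSub.idealMod I) 1)] {L M : X.Modules}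
    (hL : PicF.IsInvertible L) (hM : PicF.IsInvertible M)
    (φ : (Scheme.Modules.pullback I.subschemeι).obj L ≅ (Scheme.Modules.pullback I.subschemeι).obj M) :
    Nonempty (L ≅ M) := by
  obtain ⟨U, hU, hUa, s, t, hs, ht⟩ := exists_gen_cover hL hM
  obtain ⟨η, hηc, hη⟩ := exists_transition hs
  obtain ⟨θ, hθc, hθ⟩ := exists_transition ht
  let i := I.subschemeι
  have hσ : ∀ x, Gen (i ⁻¹ᵁ U x) (φ.hom.app _ (pullMap i L le_rfl (s x))) := fun x =>
    PicRootLib.gen_iso φ (AmpleEmb.gen_pullMap i hL (hs x))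
  have hτ : ∀ x, Gen (i ⁻¹ᵁ U x) (pullMap i M le_rfl (t x)) := fun x => AmpleEmb.gen_pullMap i hM (ht x)
  choose h hhu hh using fun x => (hσ x).exists_unit (hτ x)
  have key : ∀ a b, I.subscheme.presheaf.map (homOfLE (i.preimage_mono (inf_le_left : U a ⊓ U b ≤ U a))).op (h a) *
      i.app (U a ⊓ U b) (θ a b) =
      i.app (U a ⊓ U b) (η a b) * I.subscheme.presheaf.map (homOfLE (i.preimage_mono (inf_le_right : U a ⊓ U b ≤ U b))).op (h b) := by
    intro a b
    refine (((hτ b).res (i.preimage_mono (inf_le_right : U a ⊓ U b ≤ U b))) _ le_rfl).1 ?_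
    simp only [res_res, mul_smul]
    have e0 : ∀ (N : X.Modules) (ζ : Γ(X, U a ⊓ U b)) (u : Γ(N, U a)) (v : Γ(N, U b)),
        N.presheaf.map (homOfLE inf_le_left).op u = ζ • N.presheaf.map (homOfLE inf_le_right).op v →
        ((Scheme.Modules.pullback i).obj N).presheaf.map (homOfLE (i.preimage_mono (inf_le_left : U a ⊓ U b ≤ U a))).op (pullMap i N le_rfl u) =
          i.app (U a ⊓ U b) ζ • ((Scheme.Modules.pullback i).obj N).presheaf.map (homOfLE (i.preimage_mono (inf_le_right : U a ⊓ U b ≤ U b))).op (pullMap i N le_rfl v) := by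
      intro N ζ u v huv
      rw [pullMap_res i N _ inf_le_left (i.preimage_mono (inf_le_left : U a ⊓ U b ≤ U a)) le_rfl,
        pullMap_res i N _ inf_le_right (i.preimage_mono (inf_le_right : U a ⊓ U b ≤ U b)) le_rfl, huv, pullMap_smul]
      rw [Scheme.Hom.app_eq_appLE]
    rw [← e0 M _ _ _ (hθ a b)]
    have ea := congrArg (((Scheme.Modules.pullback i).obj M).presheaf.map
      (homOfLE (i.preimage_mono (inf_le_left : U a ⊓ U b ≤ U a))).op) (hh a)
    have eb := congrArg (((Scheme.Modules.pullback i).obj M).presheaf.map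
      (homOfLE (i.preimage_mono (inf_le_right : U a ⊓ U b ≤ U b))).op) (hh b)
    rw [Scheme.Modules.map_smul, ← DCohLib.app_natural] at ea eb
    rw [ea, eb, e0 L _ _ _ (hη a b), Scheme.Modules.Hom.app_smul]
  haveI := subsingleton_top I hI (n := 1)
  obtain ⟨e, he⟩ := exists_coboundary_of_image (seq_shortExact I hI) (ge_of_eq hU)
    (fun a => subsingleton_loc I hI (hUa a))
    (b := fun a b => mkS I hI (η a b / θ a b)) (fun a b d => by
      refine congrArg Additive.ofMul ?_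
      show ures _ (η a b / θ a b) * ures _ (η b d / θ b d) = ures _ (η a d / θ a d)
      rw [map_div, map_div, map_div, div_mul_div_comm]
      exact congrArg₂ (· / ·) (Units.ext (hηc a b d).symm) (Units.ext (hθc a b d).symm))
    (fun a => -mkS₀ I hI (hhu a).unit) (fun a b => by
      rw [map_neg, map_neg, neg_sub_neg]
      refine congrArg Additive.ofMul ?_
      show Units.map (i.app (U a ⊓ U b)).hom.toMonoidHom (η a b / θ a b) =
        Units.map (I.subscheme.presheaf.map (homOfLE (i.preimage_mono (inf_le_left : U a ⊓ U b ≤ U a))).op).hom.toMonoidHom (hhu a).unit /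
          Units.map (I.subscheme.presheaf.map (homOfLE (i.preimage_mono (inf_le_right : U a ⊓ U b ≤ U b))).op).hom.toMonoidHom (hhu b).unit
      rw [map_div, div_eq_div_iff_mul_eq_mul]
      exact Units.ext (key a b).symm)
  let ε : ∀ a, Γ(X, U a)ˣ := fun a => Additive.toMul (e a)
  have hε : ∀ a b, η a b * ures inf_le_left (ε a) = θ a b * ures inf_le_right (ε b) := fun a b => by
    have h1 : η a b / θ a b = ures inf_le_right (ε b) / ures inf_le_left (ε a) :=
      congrArg Additive.toMul (he a b)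
    rw [div_eq_div_iff_mul_eq_mul] at h1
    rw [h1, mul_comm]
  refine nonempty_iso_of_bases hU (s := fun a => (ε a : Γ(X, U a)) • s a) (t := t)
    (fun a => (hs a).smul (ε a).isUnit) ht (fun a b => (θ a b : Γ(X, U a ⊓ U b))) (fun a b => ?_) hθ
  rw [L.map_smul, L.map_smul, hη a b, ← mul_smul, ← mul_smul]
  refine congrArg (· • _) ?_
  rw [mul_comm (X.presheaf.map (homOfLE inf_le_left).op (ε a : Γ(X, U a)))]
  exact congrArg Units.val (hε a b)

include hI in
theorem exists_lift [Subsingleton (Coh.HH X (ClSub.idealMod I) 2)] {L₀ : I.subscheme.Modules}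
    (hL₀ : PicF.IsInvertible L₀) :
    ∃ L : X.Modules, PicF.IsInvertible L ∧ Nonempty ((Scheme.Modules.pullback I.subschemeι).obj L ≅ L₀) := by
  let i := I.subschemeι
  haveI := surjective_subschemeι I hI
  have loc : ∀ x : X, ∃ (V : X.Opens) (t : Γ(L₀, i ⁻¹ᵁ V)), IsAffineOpen V ∧ x ∈ V ∧ Gen (i ⁻¹ᵁ V) t := by
    intro x
    obtain ⟨z, rfl⟩ := i.surjective x
    obtain ⟨W, e, hzW, he⟩ := exists_gen_nhd hL₀ z
    obtain ⟨A, hA, hAW⟩ := i.isClosedEmbedding.isInducing.isOpen_iff.mp W.2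
    obtain ⟨V, hV, hxV, hle⟩ := exists_isAffineOpen_mem_and_subset (U := (⟨A, hA⟩ : X.Opens))
      (show i z ∈ A from (hAW ▸ hzW : z ∈ i ⁻¹' A))
    exact ⟨V, _, hV, hxV, he.res (fun y hy => hAW.subset (hle hy : y ∈ i ⁻¹' A) : i ⁻¹ᵁ V ≤ W)⟩
  choose U t hUa hxU ht using loc
  have hU : iSup U = ⊤ := eq_top_iff.2 fun x _ => Opens.mem_iSup.2 ⟨x, hxU x⟩
  obtain ⟨η, hηc, hη⟩ := exists_transition (U := fun x => i ⁻¹ᵁ U x) ht
  haveI := subsingleton_top I hI (n := 2)
  obtain ⟨b, hbc, hb⟩ := exists_cocycle_lift (seq_shortExact I hI) (ge_of_eq hU)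
    (fun a => subsingleton_loc I hI (hUa a)) (c := fun a b => mkS₀ I hI (U := U a ⊓ U b) (η a b))
    (fun a b d => congrArg Additive.ofMul (Units.ext (hηc a b d).symm))
  let θ : ∀ a b, Γ(X, U a ⊓ U b)ˣ := fun a a' => Additive.toMul (b a a')
  have hθ : ParaFLib.IsCocycle U θ := fun a a' d =>
    (congrArg (fun z => ((Additive.toMul z : Γ(X, U a ⊓ U a' ⊓ U d)ˣ) : Γ(X, U a ⊓ U a' ⊓ U d))) (hbc a a' d)).symm
  obtain ⟨L, s, hL, hs, hsθ⟩ := exists_invertible_of_cocycle U θ hU hθ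
  refine ⟨L, hL, ?_⟩
  refine nonempty_iso_of_bases (U := fun x => i ⁻¹ᵁ U x) ?_ (s := fun a => pullMap i L le_rfl (s a)) (t := t)
    (fun a => AmpleEmb.gen_pullMap i hL (hs a)) ht (fun a b => (η a b : Γ(I.subscheme, i ⁻¹ᵁ U a ⊓ i ⁻¹ᵁ U b)))
    (fun a a' => ?_) hη
  · exact eq_top_iff.2 fun z _ => Opens.mem_iSup.2 ⟨i z, hxU (i z)⟩
  rw [pullMap_res i L _ inf_le_left inf_le_left (le_rfl : i ⁻¹ᵁ U a ⊓ i ⁻¹ᵁ U a' ≤ i ⁻¹ᵁ (U a ⊓ U a')),
    pullMap_res i L _ inf_le_right inf_le_right (le_rfl : i ⁻¹ᵁ U a ⊓ i ⁻¹ᵁ U a' ≤ i ⁻¹ᵁ (U a ⊓ U a')), hsθ a a', pullMap_smul]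
  congr 1
  refine Eq.trans ?_ (congrArg (fun z => ((Additive.toMul z : Γ(I.subscheme, i ⁻¹ᵁ (U a ⊓ U a'))ˣ) :
    Γ(I.subscheme, i ⁻¹ᵁ (U a ⊓ U a')))) (hb a a'))
  show _ = i.app (U a ⊓ U a') (θ a a' : Γ(X, U a ⊓ U a'))
  rw [Scheme.Hom.app_eq_appLE]
  rfl

end Groth.Agent.PicDefLib
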