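import Groth.Agent.PicDefLib.Cech
import Groth.Agent.CohBase.Natural

/-! The class of a one-cocycle in the first cohomology. -/

set_option autoImplicit false
set_option linter.style.haveILetI false
set_option backward.isDefEq.respectTransparency false

universe u

open CategoryTheory CategoryTheory.Limits Opposite TopologicalSpace

noncomputable section

namespace Groth.Agent.PicDefLib

open CohBase

variable {X : Type u} [TopologicalSpace X] {ι κ : Type u} {U : ι → Opens X} {V : κ → Opens X}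

/-- `x` is the class of the family `c`. -/
def Cls (U : ι → Opens X) (F : AbSh X) (c : ∀ a b, F.obj.obj (op (U a ⊓ U b))) (x : HU (⊤ : Opens X) F 1) : Prop :=
  ∃ (e : ∀ a, (injSeq F).X₂.obj.obj (op (U a))) (s : (injSeq F).X₃.obj.obj (op ⊤)),
    (∀ a b, (injSeq F).f.hom.app _ (c a b) =
      res (injSeq F).X₂.obj (inf_le_right : U a ⊓ U b ≤ U b) (e b) - res (injSeq F).X₂.obj inf_le_left (e a)) ∧
    (∀ a, (injSeq F).g.hom.app _ (e a) = res (injSeq F).X₃.obj le_top s) ∧
    x = hδ (injSeq_shortExact F) ⊤ 0 ((H0Equiv ⊤ _).symm s)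

variable {F G : AbSh X} {c c' : ∀ a b, F.obj.obj (op (U a ⊓ U b))} {x x' : HU (⊤ : Opens X) F 1}

theorem hδ_g_eq_zero (r : (injSeq F).X₂.obj.obj (op (⊤ : Opens X))) :
    hδ (injSeq_shortExact F) ⊤ 0 ((H0Equiv ⊤ _).symm ((injSeq F).g.hom.app _ r)) = 0 :=
  (hδ_eq_zero_iff _ _ _ _).2 ⟨(H0Equiv ⊤ _).symm r, (H0Equiv ⊤ _).injective (by
    rw [H0Equiv_hmap, AddEquiv.apply_symm_apply, AddEquiv.apply_symm_apply])⟩

theorem Cls.unique (hcov : ⊤ ≤ iSup U) (h : Cls U F c x) (h' : Cls U F c x') : x = x' := by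
  obtain ⟨e, s, he, hs, rfl⟩ := h
  obtain ⟨e', s', he', hs', rfl⟩ := h'
  let F₂ : TopCat.Sheaf Ab.{u} (TopCat.of X) := (injSeq F).X₂
  obtain ⟨r, hr, -⟩ := TopCat.Sheaf.existsUnique_gluing' F₂ U ⊤ (fun a => homOfLE le_top) hcov
    (fun a => e a - e' a) (fun a b => by
      show res (injSeq F).X₂.obj inf_le_left (e a - e' a) = res (injSeq F).X₂.obj inf_le_right (e b - e' b)
      have h1 := (he a b).symm.trans (he' a b)
      rw [map_sub, map_sub]
      rw [sub_eq_sub_iff_sub_eq_sub] at h1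
      exact h1.symm)
  have hsr : s - s' = (injSeq F).g.hom.app _ r := by
    let F₃ : TopCat.Sheaf Ab.{u} (TopCat.of X) := (injSeq F).X₃
    refine TopCat.Sheaf.eq_of_locally_eq' F₃ U ⊤ (fun a => homOfLE le_top) hcov _ _ fun a => ?_
    show res (injSeq F).X₃.obj le_top (s - s') = res (injSeq F).X₃.obj le_top _
    rw [map_sub, ← hs, ← hs', res_map (injSeq F).g.hom, ← map_sub]
    exact congrArg _ (hr a).symm
  rw [← sub_eq_zero, ← map_sub, ← map_sub, hsr]
  exact hδ_g_eq_zero r

theorem exists_cls (hcov : ⊤ ≤ iSup U) (hc : IsCocycle U F.obj c) : ∃ x, Cls U F c x := by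
  haveI : Subsingleton (HU (⊤ : Opens X) (injSeq F).X₂ 1) := subsingleton_of_injective _ (Injective.under F) 0
  obtain ⟨e, he⟩ := ObsLiftLib.exists_coboundary U hcov (injSeq F).X₂ _ (hc.map (injSeq F).f)
  let F₃ : TopCat.Sheaf Ab.{u} (TopCat.of X) := (injSeq F).X₃
  obtain ⟨s, hs, -⟩ := TopCat.Sheaf.existsUnique_gluing' F₃ U ⊤ (fun a => homOfLE le_top) hcov
    (fun a => (injSeq F).g.hom.app _ (e a)) (fun a b => by
      show res (injSeq F).X₃.obj inf_le_left ((injSeq F).g.hom.app _ (e a)) =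
        res (injSeq F).X₃.obj inf_le_right ((injSeq F).g.hom.app _ (e b))
      rw [res_map (injSeq F).g.hom, res_map (injSeq F).g.hom, eq_comm, ← sub_eq_zero, ← map_sub, he]
      exact ConcreteCategory.congr_hom (congrArg (fun φ : F ⟶ (injSeq F).X₃ => φ.hom.app _) (injSeq F).zero) (c a b))
  exact ⟨_, e, s, fun a b => (he a b).symm, fun a => (hs a).symm, rfl⟩

theorem Cls.add (h : Cls U F c x) (h' : Cls U F c' x') : Cls U F (fun a b => c a b + c' a b) (x + x') := by
  obtain ⟨e, s, he, hs, rfl⟩ := h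
  obtain ⟨e', s', he', hs', rfl⟩ := h'
  refine ⟨fun a => e a + e' a, s + s', fun a b => ?_, fun a => ?_, by rw [map_add, map_add]⟩
  · rw [map_add, he, he', map_add, map_add]
    abel
  · rw [map_add, map_add, hs, hs']

theorem cls_coboundary (b : ∀ a, F.obj.obj (op (U a))) :
    Cls U F (fun a a' => res F.obj (inf_le_right : U a ⊓ U a' ≤ U a') (b a') - res F.obj inf_le_left (b a)) 0 :=
  ⟨fun a => (injSeq F).f.hom.app _ (b a), 0, fun a a' => by rw [map_sub, ← res_map (injSeq F).f.hom, ← res_map (injSeq F).f.hom],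
    fun a => by
      rw [map_zero]
      exact ConcreteCategory.congr_hom (congrArg (fun φ : F ⟶ (injSeq F).X₃ => φ.hom.app _) (injSeq F).zero) (b a),
    by rw [map_zero, map_zero]⟩

theorem Cls.exists_coboundary (h : Cls U F c 0) :
    ∃ b : ∀ a, F.obj.obj (op (U a)), ∀ a a', c a a' =
      res F.obj (inf_le_right : U a ⊓ U a' ≤ U a') (b a') - res F.obj inf_le_left (b a) := by
  obtain ⟨e, s, he, hs, h0⟩ := h
  obtain ⟨y, hy⟩ := (hδ_eq_zero_iff _ _ _ _).1 h0.symm
  let r := H0Equiv ⊤ (injSeq F).X₂ y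
  have hr : (injSeq F).g.hom.app _ r = s := by
    rw [← H0Equiv_hmap, hy, AddEquiv.apply_symm_apply]
  choose b hb using fun a => sections_exact (injSeq_shortExact F) (U a) (e a - res (injSeq F).X₂.obj le_top r) (by
    rw [map_sub, hs, ← res_map (injSeq F).g.hom, hr, sub_self])
  haveI : Mono (injSeq F).f := inferInstanceAs (Mono (Injective.ι F))
  refine ⟨b, fun a a' => sections_injective (injSeq F).f _ ?_⟩
  rw [he, map_sub, ← res_map (injSeq F).f.hom, ← res_map (injSeq F).f.hom, hb, hb, map_sub, map_sub, res_res, res_res]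
  abel

theorem exists_cocycle_of_class (x : HU (⊤ : Opens X) F 1) :
    ∃ (U : X → Opens X) (_ : ⊤ ≤ iSup U) (c : ∀ a b, F.obj.obj (op (U a ⊓ U b))),
      IsCocycle U F.obj c ∧ Cls U F c x := by
  have hS := injSeq_shortExact F
  haveI : Subsingleton (HU (⊤ : Opens X) (injSeq F).X₂ 1) := subsingleton_of_injective _ (Injective.under F) 0
  obtain ⟨y, hy⟩ := hδ_surjective hS ⊤ 0 x
  let s := H0Equiv ⊤ (injSeq F).X₃ y
  haveI := hS.epi_g
  haveI := hS.mono_f
  have loc : ∀ p : X, ∃ (W : Opens X) (_ : p ∈ W) (e : (injSeq F).X₂.obj.obj (op W)),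
      (injSeq F).g.hom.app _ e = res (injSeq F).X₃.obj le_top s := fun p => by
    have := (Sheaf.isLocallySurjective_iff_epi' _ (injSeq F).g).2 inferInstance
    obtain ⟨W, i, ⟨e, he⟩, hpW⟩ := this.imageSieve_mem s p (Opens.mem_top p)
    exact ⟨W, hpW, e, he⟩
  choose W hpW e he using loc
  choose c hc using fun a b => sections_exact hS (W a ⊓ W b)
    (res (injSeq F).X₂.obj inf_le_right (e b) - res (injSeq F).X₂.obj inf_le_left (e a)) (by
      rw [map_sub, ← res_map (injSeq F).g.hom, ← res_map (injSeq F).g.hom, he, he, res_res, res_res, sub_self])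
  refine ⟨W, fun p _ => Opens.mem_iSup.2 ⟨p, hpW p⟩, c, ?_, e, s, hc, he, ?_⟩
  · refine IsCocycle.of_map (injSeq F).f ?_
    simp only [hc]
    exact isCocycle_diff W _ e
  · rw [AddEquiv.symm_apply_apply]
    exact hy.symm

theorem Cls.refine (φ : κ → ι) (hφ : ∀ k, V k ≤ U (φ k)) (h : Cls U F c x) :
    Cls V F (fun a b => res F.obj (inf_le_inf (hφ a) (hφ b)) (c (φ a) (φ b))) x := by
  obtain ⟨e, s, he, hs, rfl⟩ := h
  refine ⟨fun k => res (injSeq F).X₂.obj (hφ k) (e (φ k)), s, fun a b => ?_, fun k => ?_, rfl⟩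
  · rw [← res_map (injSeq F).f.hom, he, map_sub, res_res, res_res, res_res, res_res]
  · rw [← res_map (injSeq F).g.hom, hs, res_res]

theorem Cls.map (f : F ⟶ G) (h : Cls U F c x) :
    Cls U G (fun a b => f.hom.app _ (c a b)) (hmap ⊤ f 1 x) := by
  obtain ⟨e, s, he, hs, rfl⟩ := h
  let g : Injective.under F ⟶ Injective.under G := Injective.factorThru (f ≫ Injective.ι G) (Injective.ι F)
  have hg : Injective.ι F ≫ g = f ≫ Injective.ι G := Injective.comp_factorThru _ _
  let q := cokernel.map (Injective.ι F) (Injective.ι G) f g hg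
  have hq : (injSeq F).g ≫ q = g ≫ (injSeq G).g := cokernel.π_desc _ _ _
  let φ : injSeq F ⟶ injSeq G := ⟨f, g, q, hg.symm, hq.symm⟩
  refine ⟨fun a => g.hom.app _ (e a), q.hom.app _ s, fun a b => ?_, fun a => ?_, ?_⟩
  · rw [res_map g.hom, res_map g.hom, ← map_sub]
    refine Eq.trans ?_ (congrArg (g.hom.app _) (he a b))
    exact (ConcreteCategory.congr_hom (congrArg (fun z : F ⟶ Injective.under G => z.hom.app _) hg) (c a b)).symm
  · rw [res_map q.hom, ← hs]
    exact (ConcreteCategory.congr_hom (congrArg (fun z : Injective.under F ⟶ (injSeq G).X₃ => z.hom.app _) hq) (e a)).symm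
  · refine (hδ_naturality (injSeq_shortExact F) (injSeq_shortExact G) φ ⊤ 0 _).trans (congrArg _ ?_)
    apply (H0Equiv ⊤ (injSeq G).X₃).injective
    rw [H0Equiv_hmap, AddEquiv.apply_symm_apply, AddEquiv.apply_symm_apply]

end Groth.Agent.PicDefLib
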