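import Groth.Agent.PicDefLib.Main
import Groth.Agent.PicDefLib.Class
import Groth.Agent.AmpleLib.Tensor
import Groth.Prelude.Def_PicGrp

/-! The Picard group as the first cohomology of the units. -/

set_option autoImplicit false
set_option linter.style.haveILetI false
set_option backward.isDefEq.respectTransparency false

universe u

open CategoryTheory CategoryTheory.Limits AlgebraicGeometry TopologicalSpace Opposite
open Groth.Agent.ParaFLib Groth.Agent.PullbackMod Groth.Agent.CohBase Groth.Agent.AmpleLib Groth.Agent.DCohLib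

noncomputable section

namespace Groth.Agent.PicDefLib

variable {X Y : Scheme.{u}} (j : Y ⟶ X) [IsClosedImmersion j] [Surjective j]

/-- The units of a homeomorphic scheme, as a sheaf on the base. -/
abbrev pUnits : AbSh X := (CohTop.push j.base).obj (UnitsSh.unitsAb Y)

/-- Read a unit as a section. -/
abbrev mkP {U : X.Opens} (v : Γ(Y, j ⁻¹ᵁ U)ˣ) : (pUnits j).obj.obj (op U) := Additive.ofMul v

/-- Restriction of units upstairs. -/
abbrev pres {U V : X.Opens} (h : V ≤ U) : Γ(Y, j ⁻¹ᵁ U)ˣ →* Γ(Y, j ⁻¹ᵁ V)ˣ :=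
  Units.map (Y.presheaf.map (homOfLE (j.preimage_mono h)).op).hom.toMonoidHom

/-- `η` are transition functions of the bases `s`. -/
def Trans {κ : Type u} (U : κ → X.Opens) (L : Y.Modules) (s : ∀ a, Γ(L, j ⁻¹ᵁ U a))
    (η : ∀ a b, Γ(Y, j ⁻¹ᵁ (U a ⊓ U b))ˣ) : Prop :=
  ∀ a b, L.presheaf.map (homOfLE (j.preimage_mono (inf_le_left : U a ⊓ U b ≤ U a))).op (s a) =
    (η a b : Γ(Y, j ⁻¹ᵁ (U a ⊓ U b))) • L.presheaf.map (homOfLE (j.preimage_mono (inf_le_right : U a ⊓ U b ≤ U b))).op (s b)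

/-- `x` is the class of the invertible module `L`. -/
def ClsL (L : Y.Modules) (x : HU (⊤ : X.Opens) (pUnits j) 1) : Prop :=
  ∃ (κ : Type u) (U : κ → X.Opens) (_ : ⊤ ≤ iSup U) (s : ∀ a, Γ(L, j ⁻¹ᵁ U a)) (η : ∀ a b, Γ(Y, j ⁻¹ᵁ (U a ⊓ U b))ˣ),
    (∀ a, Gen (j ⁻¹ᵁ U a) (s a)) ∧ Trans j U L s η ∧ Cls U (pUnits j) (fun a b => mkP j (η a b)) x

theorem exists_cover {L M : Y.Modules} (hL : PicF.IsInvertible L) (hM : PicF.IsInvertible M) :
    ∃ (U : X → X.Opens) (_ : ⊤ ≤ iSup U) (s : ∀ x, Γ(L, j ⁻¹ᵁ U x)) (t : ∀ x, Γ(M, j ⁻¹ᵁ U x)),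
      (∀ x, Gen (j ⁻¹ᵁ U x) (s x)) ∧ ∀ x, Gen (j ⁻¹ᵁ U x) (t x) := by
  have loc : ∀ x : X, ∃ (V : X.Opens) (s : Γ(L, j ⁻¹ᵁ V)) (t : Γ(M, j ⁻¹ᵁ V)), x ∈ V ∧ Gen (j ⁻¹ᵁ V) s ∧ Gen (j ⁻¹ᵁ V) t := by
    intro x
    obtain ⟨z, rfl⟩ := j.surjective x
    obtain ⟨W, e, hzW, he⟩ := exists_gen_nhd hL z
    obtain ⟨W', e', hzW', he'⟩ := exists_gen_nhd hM z
    obtain ⟨A, hA, hAW⟩ := j.isClosedEmbedding.isInducing.isOpen_iff.mp (W ⊓ W').2
    refine ⟨⟨A, hA⟩, _, _, (hAW.symm ▸ (⟨hzW, hzW'⟩ : z ∈ (W ⊓ W' : Y.Opens)) : z ∈ j ⁻¹' A),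
      he.res (fun y hy => (hAW.subset hy).1), he'.res (fun y hy => (hAW.subset hy).2)⟩
  choose U s t hx hs ht using loc
  exact ⟨U, fun x _ => Opens.mem_iSup.2 ⟨x, hx x⟩, s, t, hs, ht⟩

theorem exists_trans {κ : Type u} {U : κ → X.Opens} {L : Y.Modules} {s : ∀ a, Γ(L, j ⁻¹ᵁ U a)}
    (hs : ∀ a, Gen (j ⁻¹ᵁ U a) (s a)) :
    ∃ η, Trans j U L s η ∧ IsCocycle U (pUnits j).obj (fun a b => mkP j (η a b)) := by
  obtain ⟨η, hη, h⟩ := exists_transition (U := fun a => j ⁻¹ᵁ U a) hs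
  exact ⟨η, h, fun a b d => congrArg Additive.ofMul (Units.ext (hη a b d).symm)⟩

theorem Trans.refine {κ ν : Type u} {U : κ → X.Opens} {V : ν → X.Opens} {L : Y.Modules} {s : ∀ a, Γ(L, j ⁻¹ᵁ U a)}
    {η : ∀ a b, Γ(Y, j ⁻¹ᵁ (U a ⊓ U b))ˣ} (h : Trans j U L s η) (φ : ν → κ) (hφ : ∀ k, V k ≤ U (φ k)) :
    Trans j V L (fun k => L.presheaf.map (homOfLE (j.preimage_mono (hφ k))).op (s (φ k)))
      (fun a b => pres j (inf_le_inf (hφ a) (hφ b)) (η (φ a) (φ b))) := fun a b => by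
  have h1 := congrArg (L.presheaf.map (homOfLE (j.preimage_mono (inf_le_inf (hφ a) (hφ b)))).op) (h (φ a) (φ b))
  rw [L.map_smul, res_res, res_res] at h1
  rw [res_res, res_res]
  exact h1

theorem ClsL.unique {L L' : Y.Modules} (φ : L ≅ L') {x x' : HU (⊤ : X.Opens) (pUnits j) 1}
    (h : ClsL j L x) (h' : ClsL j L' x') : x = x' := by
  obtain ⟨κ, U, hU, s, η, hs, hη, hx⟩ := h
  obtain ⟨κ', U', hU', s', η', hs', hη', hx'⟩ := h'
  let W : κ × κ' → X.Opens := fun p => U p.1 ⊓ U' p.2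
  have hW : ⊤ ≤ iSup W := fun p hp => by
    obtain ⟨a, ha⟩ := Opens.mem_iSup.1 (hU hp)
    obtain ⟨b, hb⟩ := Opens.mem_iSup.1 (hU' hp)
    exact Opens.mem_iSup.2 ⟨(a, b), ha, hb⟩
  have h1 : ∀ p, W p ≤ U p.1 := fun p => inf_le_left
  have h2 : ∀ p, W p ≤ U' p.2 := fun p => inf_le_right
  have hσ : ∀ p, Gen (j ⁻¹ᵁ W p) (φ.hom.app _ (L.presheaf.map (homOfLE (j.preimage_mono (h1 p))).op (s p.1))) :=
    fun p => PicRootLib.gen_iso φ ((hs p.1).res _)
  have hτ : ∀ p, Gen (j ⁻¹ᵁ W p) (L'.presheaf.map (homOfLE (j.preimage_mono (h2 p))).op (s' p.2)) := fun p => (hs' p.2).res _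
  choose h hhu hh using fun p => (hσ p).exists_unit (hτ p)
  have hη1 := hη.refine j Prod.fst h1
  have hη2 := hη'.refine j Prod.snd h2
  let c := fun p q : κ × κ' => pres j (inf_le_inf (h1 p) (h1 q)) (η p.1 q.1)
  let c' := fun p q : κ × κ' => pres j (inf_le_inf (h2 p) (h2 q)) (η' p.2 q.2)
  have key : ∀ p q, pres j inf_le_left (hhu p).unit * c' p q = c p q * pres j inf_le_right (hhu q).unit := by
    intro p q
    refine Units.ext ?_
    refine (((hτ q).res (j.preimage_mono (inf_le_right : W p ⊓ W q ≤ W q))) _ le_rfl).1 ?_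
    simp only [res_res, Units.val_mul, mul_smul]
    have ep := congrArg (L'.presheaf.map (homOfLE (j.preimage_mono (inf_le_left : W p ⊓ W q ≤ W p))).op) (hh p)
    have eq' := congrArg (L'.presheaf.map (homOfLE (j.preimage_mono (inf_le_right : W p ⊓ W q ≤ W q))).op) (hh q)
    rw [L'.map_smul, ← DCohLib.app_natural, res_res] at ep eq'
    have f1 := hη1 p q
    have f2 := hη2 p q
    rw [res_res, res_res] at f1 f2
    show (pres j inf_le_left (hhu p).unit).1 • (c' p q).1 • _ = (c p q).1 • (pres j inf_le_right (hhu q).unit).1 • _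
    rw [← f2]
    refine ep.trans ?_
    refine Eq.trans ?_ (congrArg ((c p q).1 • ·) eq'.symm)
    rw [res_res, res_res, ← Scheme.Modules.Hom.app_smul]
    exact congrArg (φ.hom.app _) f1
  refine Cls.unique hW ((hx.refine Prod.fst h1)) ?_
  have hadd := (hx'.refine Prod.snd h2).add (cls_coboundary (U := W) (fun p => -mkP j (hhu p).unit))
  rw [add_zero] at hadd
  refine cast (congrArg (fun z => Cls W (pUnits j) z x') (funext fun p => funext fun q => ?_)) hadd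
  rw [map_neg, map_neg, neg_sub_neg]
  refine congrArg Additive.ofMul ?_
  show c' p q * (pres j inf_le_left (hhu p).unit / pres j inf_le_right (hhu q).unit) = c p q
  rw [mul_div_assoc', div_eq_iff_eq_mul, mul_comm]
  exact key p q

theorem exists_clsL {L : Y.Modules} (hL : PicF.IsInvertible L) : ∃ x, ClsL j L x := by
  obtain ⟨U, hU, s, -, hs, -⟩ := exists_cover j hL hL
  obtain ⟨η, hη, hc⟩ := exists_trans j hs
  obtain ⟨x, hx⟩ := exists_cls hU hc
  exact ⟨x, _, U, hU, s, η, hs, hη, hx⟩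

theorem exists_of_class (x : HU (⊤ : X.Opens) (pUnits j) 1) : ∃ L, PicF.IsInvertible L ∧ ClsL j L x := by
  obtain ⟨U, hU, c, hc, hx⟩ := exists_cocycle_of_class x
  let η : ∀ a b, Γ(Y, j ⁻¹ᵁ (U a ⊓ U b))ˣ := fun a b => Additive.toMul (c a b)
  have hη : ParaFLib.IsCocycle (fun a => j ⁻¹ᵁ U a) η := fun a b d =>
    (congrArg (fun z => ((Additive.toMul z : Γ(Y, j ⁻¹ᵁ (U a ⊓ U b ⊓ U d))ˣ) : Γ(Y, j ⁻¹ᵁ (U a ⊓ U b ⊓ U d)))) (hc a b d)).symm
  obtain ⟨L, s, hL, hs, hsη⟩ := exists_invertible_of_cocycle (fun a => j ⁻¹ᵁ U a) η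
    (eq_top_iff.2 fun z _ => by
      obtain ⟨a, ha⟩ := Opens.mem_iSup.1 (hU (Opens.mem_top (j z)))
      exact Opens.mem_iSup.2 ⟨a, ha⟩) hη
  exact ⟨L, hL, _, U, hU, s, η, hs, hsη, hx⟩

theorem ClsL.triv {L : Y.Modules} (h : ClsL j L 0) : Nonempty (L ≅ Coh.structureModule Y) := by
  obtain ⟨κ, U, hU, s, η, hs, hη, hx⟩ := h
  obtain ⟨b, hb⟩ := hx.exists_coboundary
  let β : ∀ a, Γ(Y, j ⁻¹ᵁ U a)ˣ := fun a => Additive.toMul (b a)
  have hβ : ∀ p q, pres j inf_le_left (β p) * η p q = pres j inf_le_right (β q) := fun p q => by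
    have h1 : η p q = pres j inf_le_right (β q) / pres j inf_le_left (β p) := congrArg Additive.toMul (hb p q)
    rw [h1, mul_div_cancel]
  refine nonempty_iso_of_bases (U := fun a => j ⁻¹ᵁ U a) (eq_top_iff.2 fun z _ => by
      obtain ⟨a, ha⟩ := Opens.mem_iSup.1 (hU (Opens.mem_top (j z)))
      exact Opens.mem_iSup.2 ⟨a, ha⟩)
    (s := fun a => (β a : Γ(Y, j ⁻¹ᵁ U a)) • s a) (t := fun a => (1 : Γ(Y, j ⁻¹ᵁ U a)))
    (fun a => (hs a).smul (β a).isUnit) (fun a => gen_one _) (fun a b => 1) (fun p q => ?_) (fun p q => ?_)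
  · rw [L.map_smul, L.map_smul, one_smul]
    refine (congrArg _ (hη p q)).trans ?_
    rw [← mul_smul]
    exact congrArg (fun z : Γ(Y, j ⁻¹ᵁ (U p ⊓ U q)) => z •
        L.presheaf.map (homOfLE (j.preimage_mono (inf_le_right : U p ⊓ U q ≤ U q))).op (s q)) (congrArg Units.val (hβ p q))
  · rw [one_smul]
    exact (map_one (Y.presheaf.map (homOfLE _).op).hom).trans (map_one (Y.presheaf.map (homOfLE _).op).hom).symm

theorem ClsL.tensor {L M : Y.Modules} (hL : PicF.IsInvertible L) (hM : PicF.IsInvertible M)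
    {x y : HU (⊤ : X.Opens) (pUnits j) 1} (hx : ClsL j L x) (hy : ClsL j M y) :
    ClsL j (CohB1.tensorMod L M) (x + y) := by
  obtain ⟨U, hU, s, t, hs, ht⟩ := exists_cover j hL hM
  obtain ⟨η, hη, hc⟩ := exists_trans j hs
  obtain ⟨θ, hθ, hd⟩ := exists_trans j ht
  obtain ⟨x', hx'⟩ := exists_cls hU hc
  obtain ⟨y', hy'⟩ := exists_cls hU hd
  rw [hx.unique j (Iso.refl L) ⟨_, U, hU, s, η, hs, hη, hx'⟩,
    hy.unique j (Iso.refl M) ⟨_, U, hU, t, θ, ht, hθ, hy'⟩]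
  refine ⟨_, U, hU, fun a => pairS L M (s a) (t a), fun a b => η a b * θ a b,
    fun a => gen_pairS (hs a) (ht a), fun a b => ?_, hx'.add hy'⟩
  refine (res_pairS (M := L) (N := M) _ _ _).trans (Eq.trans ?_ (congrArg (_ • ·) (res_pairS (M := L) (N := M) _ _ _).symm))
  rw [hη a b, hθ a b, pairS_smul_left, pairS_smul_right, smul_smul]
  rfl

/-- The class of an invertible module. -/
def cl1 (L : PicLoc.PicSet Y) : HU (⊤ : X.Opens) (pUnits j) 1 :=
  (exists_clsL j (PicGrp.exists_eq_cls L).choose_spec.choose).choose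

theorem cl1_cls {L : Y.Modules} (hL : PicF.IsInvertible L) {x : HU (⊤ : X.Opens) (pUnits j) 1} (hx : ClsL j L x) :
    cl1 j (PicGrp.cls L hL) = x := by
  have h := (PicGrp.exists_eq_cls (PicGrp.cls L hL)).choose_spec.choose_spec
  obtain ⟨φ⟩ := (PicGrp.cls_eq_cls_iff hL _).1 h
  exact ((hx.unique j φ (exists_clsL j (PicGrp.exists_eq_cls (PicGrp.cls L hL)).choose_spec.choose).choose_spec)).symm

theorem cl1_surjective : Function.Surjective (cl1 j) := fun x => by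
  obtain ⟨L, hL, hx⟩ := exists_of_class j x
  exact ⟨PicGrp.cls L hL, cl1_cls j hL hx⟩

/-- `Pic = H¹(units)`. -/
def picEquiv [PicGrp.Law Y] : Additive (PicLoc.PicSet Y) ≃+ HU (⊤ : X.Opens) (pUnits j) 1 :=
  AddEquiv.ofBijective (AddMonoidHom.mk' (fun a => cl1 j a.toMul) fun a b => by
      obtain ⟨L, hL, ha⟩ := PicGrp.exists_eq_cls a.toMul
      obtain ⟨M, hM, hb⟩ := PicGrp.exists_eq_cls b.toMul
      obtain ⟨x, hx⟩ := exists_clsL j hL
      obtain ⟨y, hy⟩ := exists_clsL j hM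
      have e : PicGrp.cls L hL * PicGrp.cls M hM = PicGrp.cls (CohB1.tensorMod L M) (isInvertible_tensor hL hM) :=
        Subtype.ext (PicGrp.cls_mul_cls_val hL hM)
      show cl1 j (a.toMul * b.toMul) = _
      rw [ha, hb, e, cl1_cls j _ (hx.tensor j hL hM hy), cl1_cls j hL hx, cl1_cls j hM hy])
    ⟨(injective_iff_map_eq_zero _).2 fun a ha => by
      obtain ⟨L, hL, h⟩ := PicGrp.exists_eq_cls a.toMul
      obtain ⟨x, hx⟩ := exists_clsL j hL
      change cl1 j a.toMul = 0 at ha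
      rw [h, cl1_cls j hL hx] at ha
      subst ha
      exact congrArg Additive.ofMul (h.trans ((PicGrp.cls_eq_one_iff hL).2 (hx.triv j))),
    fun x => let ⟨L, h⟩ := cl1_surjective j x; ⟨Additive.ofMul L, h⟩⟩

theorem picEquiv_cls [PicGrp.Law Y] {L : Y.Modules} (hL : PicF.IsInvertible L) {x : HU (⊤ : X.Opens) (pUnits j) 1}
    (hx : ClsL j L x) : picEquiv j (Additive.ofMul (PicGrp.cls L hL)) = x := cl1_cls j hL hx

end Groth.Agent.PicDefLib
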