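import Groth.Agent.ObsLiftLib.CechOne
import Mathlib.CategoryTheory.Abelian.Refinements

/-! Lifting one-cocycles along short exact sequences of sheaves. -/

set_option autoImplicit false

universe u

open CategoryTheory CategoryTheory.Limits Opposite TopologicalSpace

namespace Groth.Agent.PicDefLib

open CohBase

variable {X : Type u} [TopologicalSpace X] {ι : Type u} (U : ι → Opens X)

/-- The cocycle condition for a family on the pairwise intersections. -/
def IsCocycle (P : (Opens X)ᵒᵖ ⥤ AddCommGrpCat.{u}) (c : ∀ a b, P.obj (op (U a ⊓ U b))) : Prop :=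
  ∀ a b d, res P (le_inf (inf_le_left.trans inf_le_left) (inf_le_left.trans inf_le_right) :
        U a ⊓ U b ⊓ U d ≤ U a ⊓ U b) (c a b) +
      res P (le_inf (inf_le_left.trans inf_le_right) inf_le_right : U a ⊓ U b ⊓ U d ≤ U b ⊓ U d) (c b d) =
    res P (le_inf (inf_le_left.trans inf_le_left) inf_le_right : U a ⊓ U b ⊓ U d ≤ U a ⊓ U d) (c a d)

theorem isCocycle_diff (P : (Opens X)ᵒᵖ ⥤ AddCommGrpCat.{u}) (s : ∀ a, P.obj (op (U a))) :
    IsCocycle U P fun a b => res P (inf_le_right : U a ⊓ U b ≤ U b) (s b) - res P inf_le_left (s a) := fun a b d => by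
  simp only [map_sub, res_res]
  abel

variable {U} {S : ShortComplex (AbSh X)} (hS : S.ShortExact)

theorem IsCocycle.map {F G : AbSh X} (f : F ⟶ G) {c : ∀ a b, F.obj.obj (op (U a ⊓ U b))}
    (hc : IsCocycle U F.obj c) : IsCocycle U G.obj fun a b => f.hom.app _ (c a b) := fun a b d => by
  simp only [res_map f.hom]
  rw [← map_add, hc]

theorem IsCocycle.of_map {F G : AbSh X} (f : F ⟶ G) [Mono f] {c : ∀ a b, F.obj.obj (op (U a ⊓ U b))}
    (hc : IsCocycle U G.obj fun a b => f.hom.app _ (c a b)) : IsCocycle U F.obj c := fun a b d => by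
  refine sections_injective f _ ?_
  rw [map_add, ← res_map f.hom, ← res_map f.hom, ← res_map f.hom]
  exact hc a b d

include hS in
/-- A cocycle whose image is a coboundary is a coboundary, when the kernel has no first cohomology. -/
theorem exists_coboundary_of_image (hcov : ⊤ ≤ iSup U) [Subsingleton (HU (⊤ : Opens X) S.X₁ 1)]
    (hloc : ∀ a, Subsingleton (HU (U a) S.X₁ 1))
    {b : ∀ a a', S.X₂.obj.obj (op (U a ⊓ U a'))} (hb : IsCocycle U S.X₂.obj b)
    (c : ∀ a, S.X₃.obj.obj (op (U a)))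
    (hbc : ∀ a a', S.g.hom.app _ (b a a') =
      res S.X₃.obj (inf_le_right : U a ⊓ U a' ≤ U a') (c a') - res S.X₃.obj inf_le_left (c a)) :
    ∃ e : ∀ a, S.X₂.obj.obj (op (U a)), ∀ a a', b a a' =
      res S.X₂.obj (inf_le_right : U a ⊓ U a' ≤ U a') (e a') - res S.X₂.obj inf_le_left (e a) := by
  haveI := hS.mono_f
  choose c' hc' using fun a => by
    haveI := hloc a
    exact sections_surjective hS (U a) (c a)
  choose t ht using fun a a' => sections_exact hS (U a ⊓ U a')
    (b a a' - (res S.X₂.obj inf_le_right (c' a') - res S.X₂.obj inf_le_left (c' a))) (by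
      rw [map_sub, map_sub, hbc, ← res_map S.g.hom, ← res_map S.g.hom, hc', hc', sub_self])
  have htc : IsCocycle U S.X₁.obj t := IsCocycle.of_map S.f fun a a' d => by
    simp only [ht, map_sub, ← hb a a' d, res_res]
    abel
  obtain ⟨h, hh⟩ := ObsLiftLib.exists_coboundary U hcov S.X₁ t htc
  refine ⟨fun a => c' a + S.f.hom.app _ (h a), fun a a' => ?_⟩
  have := ht a a'
  rw [← hh a a', map_sub, ← res_map S.f.hom, ← res_map S.f.hom] at this
  simp only [map_add]
  rw [sub_eq_iff_eq_add.1 this.symm]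
  abel

include hS in
/-- A cocycle of the quotient lifts, when the kernel has no second cohomology. -/
theorem exists_cocycle_lift (hcov : ⊤ ≤ iSup U) [Subsingleton (HU (⊤ : Opens X) S.X₁ 2)]
    (hloc : ∀ a, Subsingleton (HU (U a) S.X₁ 1))
    {c : ∀ a a', S.X₃.obj.obj (op (U a ⊓ U a'))} (hc : IsCocycle U S.X₃.obj c) :
    ∃ b : ∀ a a', S.X₂.obj.obj (op (U a ⊓ U a')),
      IsCocycle U S.X₂.obj b ∧ ∀ a a', S.g.hom.app _ (b a a') = c a a' := by
  haveI := hS.mono_f
  haveI := hS.epi_g
  let j := Injective.ι S.X₂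
  let T : ShortComplex (AbSh X) := ShortComplex.mk (S.f ≫ j) (cokernel.π (S.f ≫ j)) (cokernel.condition _)
  have hT : T.ShortExact := ShortComplex.ShortExact.mk'
    (ShortComplex.exact_of_g_is_cokernel _ (cokernelIsCokernel _)) inferInstance inferInstance
  haveI : Subsingleton (HU (⊤ : Opens X) T.X₂ 1) := subsingleton_of_injective _ (Injective.under S.X₂) 0
  haveI : Subsingleton (HU (⊤ : Opens X) T.X₁ (1 + 1)) := ‹_›
  haveI : Subsingleton (HU (⊤ : Opens X) T.X₃ 1) := subsingleton_quot hT ⊤ 1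
  let g' : S.X₃ ⟶ T.X₃ := hS.exact.gIsCokernel.desc (CokernelCofork.ofπ (j ≫ T.g)
    ((Category.assoc _ _ _).symm.trans T.zero))
  have hg' : S.g ≫ g' = j ≫ T.g := hS.exact.gIsCokernel.fac _ WalkingParallelPair.one
  haveI : Mono g' := Preadditive.mono_of_cancel_zero _ fun {Z} t ht => by
    obtain ⟨Z', π, hπ, b, hb⟩ := surjective_up_to_refinements_of_epi S.g t
    have h0 : (b ≫ j) ≫ T.g = 0 := by
      rw [Category.assoc, ← hg', ← Category.assoc, ← hb, Category.assoc, ht, comp_zero]
    obtain ⟨a, ha⟩ := KernelFork.IsLimit.lift' hT.exact.fIsKernel _ h0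
    have hba : a ≫ S.f = b := by
      rw [← cancel_mono j, Category.assoc]
      exact ha
    rw [← cancel_epi π, comp_zero, hb, ← hba, Category.assoc, S.zero, comp_zero]
  obtain ⟨s, hs⟩ := ObsLiftLib.exists_coboundary U hcov T.X₃ _ (hc.map g')
  choose e he using fun a => by
    haveI : Subsingleton (HU (U a) T.X₁ 1) := hloc a
    exact sections_surjective hT (U a) (s a)
  let ρ : T.X₃ ⟶ cokernel j := cokernel.desc _ (cokernel.π j) (by rw [Category.assoc, cokernel.condition, comp_zero])
  have hgρ : g' ≫ ρ = 0 := by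
    rw [← cancel_epi S.g, ← Category.assoc, hg', Category.assoc, comp_zero]
    show j ≫ cokernel.π _ ≫ ρ = 0
    rw [cokernel.π_desc, cokernel.condition]
  let d := fun a a' => res T.X₂.obj (inf_le_right : U a ⊓ U a' ≤ U a') (e a') - res T.X₂.obj inf_le_left (e a)
  have hd : ∀ a a', T.g.hom.app _ (d a a') = g'.hom.app _ (c a a') := fun a a' => by
    simp only [d, map_sub]
    rw [← res_map T.g.hom, ← res_map T.g.hom, he, he]
    exact hs a a'
  choose b hb using fun a a' => sections_exact (injSeq_shortExact S.X₂) (U a ⊓ U a') (d a a') (by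
    have h1 : (T.g ≫ ρ) = cokernel.π j := cokernel.π_desc _ _ _
    show (cokernel.π j).hom.app _ _ = 0
    rw [← h1]
    show ρ.hom.app _ (T.g.hom.app _ (d a a')) = 0
    rw [hd]
    show (g' ≫ ρ).hom.app _ (c a a') = 0
    rw [hgρ]
    rfl)
  have hjb : ∀ a a', j.hom.app _ (b a a') = d a a' := hb
  refine ⟨b, IsCocycle.of_map j ?_, fun a a' => sections_injective g' _ ?_⟩
  · simp only [hjb]
    exact isCocycle_diff U T.X₂.obj e
  · show (S.g ≫ g').hom.app _ _ = _
    rw [hg']
    exact (congrArg (T.g.hom.app _) (hjb a a')).trans (hd a a')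

end Groth.Agent.PicDefLib
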