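import Groth.Agent.PicDefLib.Pic

/-! The exact sequence of a square zero thickening. -/

set_option autoImplicit false
set_option linter.style.haveILetI false
set_option backward.isDefEq.respectTransparency false

universe u

open CategoryTheory CategoryTheory.Limits AlgebraicGeometry TopologicalSpace Opposite
open Groth.Agent.ParaFLib Groth.Agent.PullbackMod Groth.Agent.CohBase

noncomputable section

namespace Groth.Agent.PicDefLib

variable {Z : Type u} [TopologicalSpace Z] {S : ShortComplex (AbSh Z)} (hS : S.ShortExact)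

include hS in
theorem hmap_f_eq_zero_iff (U : Opens Z) (n : ℕ) (x : HU U S.X₁ (n + 1)) :
    hmap U S.f (n + 1) x = 0 ↔ ∃ y, hδ hS U n y = x := by
  refine ⟨fun h => Abelian.Ext.covariant_sequence_exact₁ (freeAb U) hS x h rfl, ?_⟩
  rintro ⟨y, rfl⟩
  show (y.comp hS.extClass rfl).comp (Abelian.Ext.mk₀ S.f) (add_zero (n + 1)) = 0
  rw [Abelian.Ext.comp_assoc_of_third_deg_zero, ShortComplex.ShortExact.extClass_comp, Abelian.Ext.comp_zero]

include hS in
theorem hmap_g_eq_zero_iff (U : Opens Z) (n : ℕ) (x : HU U S.X₂ n) :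
    hmap U S.g n x = 0 ↔ ∃ y, hmap U S.f n y = x := by
  refine ⟨fun h => Abelian.Ext.covariant_sequence_exact₂ (freeAb U) hS x h, ?_⟩
  rintro ⟨y, rfl⟩
  show (y.comp (Abelian.Ext.mk₀ S.f) (add_zero n)).comp (Abelian.Ext.mk₀ S.g) (add_zero n) = 0
  rw [Abelian.Ext.comp_assoc_of_third_deg_zero, Abelian.Ext.mk₀_comp_mk₀, S.zero, Abelian.Ext.mk₀_zero,
    Abelian.Ext.comp_zero]

variable {X : Scheme.{u}} (I : X.IdealSheafData) (hI : I * I = ⊥) [IsClosedImmersion I.subschemeι]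
  [Surjective I.subschemeι]

include hI in
theorem ClsL.pullback {L : X.Modules} (hL : PicF.IsInvertible L) {x : HU (⊤ : X.Opens) (pUnits (𝟙 X)) 1}
    (h : ClsL (𝟙 X) L x) :
    ClsL I.subschemeι ((Scheme.Modules.pullback I.subschemeι).obj L) (hmap ⊤ (seq I hI).g 1 x) := by
  obtain ⟨κ, U, hU, s, η, hs, hη, hx⟩ := h
  let i := I.subschemeι
  let η' : ∀ a b : κ, Γ(I.subscheme, i ⁻¹ᵁ (U a ⊓ U b))ˣ := fun a b =>
    Units.map (i.app (U a ⊓ U b)).hom.toMonoidHom (show Γ(X, U a ⊓ U b)ˣ from η a b)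
  refine ⟨κ, U, hU, fun a => pullMap i L (le_rfl : i ⁻¹ᵁ U a ≤ i ⁻¹ᵁ U a) (s a), η', fun a => AmpleEmb.gen_pullMap i hL (hs a),
    fun a b => ?_, hx.map (seq I hI).g⟩
  rw [pullMap_res i L _ (inf_le_left : U a ⊓ U b ≤ U a) (i.preimage_mono (inf_le_left : U a ⊓ U b ≤ U a)) le_rfl,
    pullMap_res i L _ (inf_le_right : U a ⊓ U b ≤ U b) (i.preimage_mono (inf_le_right : U a ⊓ U b ≤ U b)) le_rfl]
  have := hη a b
  erw [this, pullMap_smul]
  rw [← Scheme.Hom.app_eq_appLE]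
  rfl

variable [PicGrp.Law X] [PicGrp.Law I.subscheme] (hi : PicGrp.PullMul I.subschemeι)

theorem picEquiv_pullHom (c : PicLoc.PicSet X) :
    picEquiv I.subschemeι (Additive.ofMul (PicGrp.pullHom I.subschemeι hi c)) =
      hmap ⊤ (seq I hI).g 1 (picEquiv (𝟙 X) (Additive.ofMul c)) := by
  obtain ⟨L, hL, rfl⟩ := PicGrp.exists_eq_cls c
  obtain ⟨x, hx⟩ := exists_clsL (𝟙 X) hL
  rw [PicGrp.pullHom_cls, picEquiv_cls (𝟙 X) hL hx, picEquiv_cls I.subschemeι _ (ClsL.pullback I hI hL hx)]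

/-- Global sections of the ideal into units. -/
def epsHom : Multiplicative (Coh.HH X (ClSub.idealMod I) 0) →* Γ(X, ⊤)ˣ :=
  AddMonoidHom.toMultiplicativeLeft (show Coh.HH X (ClSub.idealMod I) 0 →+ Additive Γ(X, ⊤)ˣ from
    ((H0Equiv (⊤ : X.Opens) (seq I hI).X₂).toAddMonoidHom.comp (hmap ⊤ (seq I hI).f 0)).comp
    (HHEquiv (ClSub.idealMod I) 0).toAddMonoidHom)

/-- The connecting map on units. -/
def delta0 : Γ(I.subscheme, ⊤)ˣ →* Multiplicative (Coh.HH X (ClSub.idealMod I) 1) :=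
  AddMonoidHom.toMultiplicativeRight ((HHEquiv (ClSub.idealMod I) 1).symm.toAddMonoidHom.comp
    ((hδ (seq_shortExact I hI) ⊤ 0).comp (H0Equiv (⊤ : X.Opens) (seq I hI).X₃).symm.toAddMonoidHom))

/-- From `H¹` to the Picard group. -/
def alpha : Multiplicative (Coh.HH X (ClSub.idealMod I) 1) →* PicLoc.PicSet X :=
  ((picEquiv (𝟙 X)).symm.toAddMonoidHom.comp ((hmap ⊤ (seq I hI).f 1).comp
    (HHEquiv (ClSub.idealMod I) 1).toAddMonoidHom)).toMultiplicativeLeft

/-- The obstruction. -/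
def delta1 : PicLoc.PicSet I.subscheme →* Multiplicative (Coh.HH X (ClSub.idealMod I) 2) :=
  AddMonoidHom.toMultiplicativeRight ((HHEquiv (ClSub.idealMod I) 2).symm.toAddMonoidHom.comp
    ((hδ (seq_shortExact I hI) ⊤ 1).comp (picEquiv I.subschemeι).toAddMonoidHom))

theorem comap_top (v : Γ(X, ⊤)ˣ) : (seq I hI).g.hom.app (op (⊤ : X.Opens)) (Additive.ofMul v) =
    Additive.ofMul (Units.map I.subschemeι.appTop.hom.toMonoidHom v) := rfl

theorem epsHom_injective : Function.Injective (epsHom I hI) := by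
  intro a b h
  haveI := (seq_shortExact I hI).mono_f
  have h1 := congrArg Additive.ofMul h
  change H0Equiv _ _ (hmap _ _ 0 (HHEquiv _ 0 a.toAdd)) = H0Equiv _ _ (hmap _ _ 0 (HHEquiv _ 0 b.toAdd)) at h1
  rw [H0Equiv_hmap, H0Equiv_hmap] at h1
  exact (HHEquiv _ 0).injective ((H0Equiv _ _).injective (sections_injective (seq I hI).f _ h1))

theorem ker_units : (Units.map I.subschemeι.appTop.hom.toMonoidHom).ker = (epsHom I hI).range := by
  ext v
  rw [MonoidHom.mem_ker, MonoidHom.mem_range]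
  constructor
  · intro h
    obtain ⟨t, ht⟩ := sections_exact (seq_shortExact I hI) ⊤ (Additive.ofMul v) (by
      refine (comap_top I hI v).trans ?_
      rw [h]
      rfl)
    refine ⟨Multiplicative.ofAdd ((HHEquiv _ 0).symm ((H0Equiv (⊤ : X.Opens) (seq I hI).X₁).symm t)), ?_⟩
    refine Additive.ofMul.injective (Eq.trans ?_ ht)
    refine (congrArg (fun z => H0Equiv (⊤ : X.Opens) (seq I hI).X₂ (hmap ⊤ (seq I hI).f 0 z))
      ((HHEquiv (ClSub.idealMod I) 0).apply_symm_apply _)).trans ?_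
    exact (H0Equiv_hmap _ _ _).trans (congrArg _ (AddEquiv.apply_symm_apply _ _))
  · rintro ⟨a, rfl⟩
    have h1 := comap_top I hI (epsHom I hI a)
    have h2 : (seq I hI).g.hom.app (op (⊤ : X.Opens)) (Additive.ofMul (epsHom I hI a)) = 0 := by
      show (seq I hI).g.hom.app _ (H0Equiv _ _ (hmap _ _ 0 (HHEquiv _ 0 a.toAdd))) = 0
      refine (H0Equiv_hmap _ _ _).symm.trans ?_
      refine (congrArg _ ((hmap_g_eq_zero_iff (seq_shortExact I hI) ⊤ 0 _).2 ⟨_, rfl⟩)).trans (map_zero _)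
    exact Additive.ofMul.injective (h1.symm.trans h2)

theorem ker_delta0 : (delta0 I hI).ker = (Units.map I.subschemeι.appTop.hom.toMonoidHom).range := by
  ext w
  rw [MonoidHom.mem_ker, MonoidHom.mem_range]
  have hw : delta0 I hI w = 1 ↔
      hδ (seq_shortExact I hI) ⊤ 0 ((H0Equiv (⊤ : X.Opens) (seq I hI).X₃).symm (Additive.ofMul w)) = 0 :=
    map_eq_zero_iff (HHEquiv (ClSub.idealMod I) 1).symm (HHEquiv (ClSub.idealMod I) 1).symm.injective
  rw [hw, hδ_eq_zero_iff]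
  constructor
  · rintro ⟨y, hy⟩
    refine ⟨Additive.toMul (H0Equiv _ _ y), Additive.ofMul.injective ?_⟩
    refine (comap_top I hI _).symm.trans ?_
    show (seq I hI).g.hom.app _ (H0Equiv _ _ y) = _
    rw [← H0Equiv_hmap, hy, AddEquiv.apply_symm_apply]
    rfl
  · rintro ⟨v, rfl⟩
    refine ⟨(H0Equiv _ _).symm (Additive.ofMul v), (H0Equiv _ _).injective ?_⟩
    rw [H0Equiv_hmap, AddEquiv.apply_symm_apply, AddEquiv.apply_symm_apply]
    exact comap_top I hI v

theorem ker_alpha : (alpha I hI).ker = (delta0 I hI).range := by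
  ext a
  rw [MonoidHom.mem_ker, MonoidHom.mem_range]
  have ha : alpha I hI a = 1 ↔ hmap (⊤ : X.Opens) (seq I hI).f 1 (HHEquiv (ClSub.idealMod I) 1 a.toAdd) = 0 :=
    map_eq_zero_iff (picEquiv (𝟙 X)).symm (picEquiv (𝟙 X)).symm.injective
  rw [ha, hmap_f_eq_zero_iff (seq_shortExact I hI)]
  constructor
  · rintro ⟨y, hy⟩
    refine ⟨Additive.toMul (H0Equiv (⊤ : X.Opens) (seq I hI).X₃ y), ?_⟩
    show Multiplicative.ofAdd ((HHEquiv _ 1).symm (hδ _ _ 0 ((H0Equiv _ _).symm (H0Equiv _ _ y)))) = a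
    rw [AddEquiv.symm_apply_apply, hy, AddEquiv.symm_apply_apply]
    rfl
  · rintro ⟨v, rfl⟩
    exact ⟨_, ((HHEquiv (ClSub.idealMod I) 1).apply_symm_apply _).symm⟩

theorem ker_pullHom : (PicGrp.pullHom I.subschemeι hi).ker = (alpha I hI).range := by
  ext c
  rw [MonoidHom.mem_ker, MonoidHom.mem_range]
  have hc : PicGrp.pullHom I.subschemeι hi c = 1 ↔
      hmap (⊤ : X.Opens) (seq I hI).g 1 (picEquiv (𝟙 X) (Additive.ofMul c)) = 0 := by
    rw [← picEquiv_pullHom I hI hi]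
    exact (map_eq_zero_iff (picEquiv I.subschemeι) (picEquiv I.subschemeι).injective).symm
  rw [hc, hmap_g_eq_zero_iff (seq_shortExact I hI)]
  constructor
  · rintro ⟨y, hy⟩
    refine ⟨Multiplicative.ofAdd ((HHEquiv _ 1).symm y), ?_⟩
    show Additive.toMul ((picEquiv (𝟙 X)).symm (hmap _ _ 1 (HHEquiv _ 1 ((HHEquiv _ 1).symm y)))) = c
    rw [AddEquiv.apply_symm_apply]
    exact congrArg Additive.toMul ((congrArg (picEquiv (𝟙 X)).symm hy).trans ((picEquiv (𝟙 X)).symm_apply_apply _))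
  · rintro ⟨a, rfl⟩
    exact ⟨HHEquiv _ 1 a.toAdd, ((picEquiv (𝟙 X)).apply_symm_apply _).symm⟩

theorem ker_delta1 : (delta1 I hI).ker = (PicGrp.pullHom I.subschemeι hi).range := by
  ext d
  rw [MonoidHom.mem_ker, MonoidHom.mem_range]
  have hd : delta1 I hI d = 1 ↔
      hδ (seq_shortExact I hI) ⊤ 1 (picEquiv I.subschemeι (Additive.ofMul d)) = 0 :=
    map_eq_zero_iff (HHEquiv (ClSub.idealMod I) 2).symm (HHEquiv (ClSub.idealMod I) 2).symm.injective
  rw [hd, hδ_eq_zero_iff]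
  constructor
  · rintro ⟨y, hy⟩
    refine ⟨Additive.toMul ((picEquiv (𝟙 X)).symm y), Additive.ofMul.injective ((picEquiv I.subschemeι).injective ?_)⟩
    rw [picEquiv_pullHom I hI hi, ofMul_toMul, AddEquiv.apply_symm_apply]
    exact hy
  · rintro ⟨c, rfl⟩
    exact ⟨_, (picEquiv_pullHom I hI hi c).symm⟩

end Groth.Agent.PicDefLib
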