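import Groth.Agent.PicDefLib.Seq
import Groth.Agent.ClSubLib.Annihilator
import Groth.Agent.ProperFin.PushHH

/-! Cohomology of the ideal of a square zero thickening, computed on the thickened scheme or on the subscheme. -/

set_option autoImplicit false
set_option linter.style.haveILetI false
set_option backward.isDefEq.respectTransparency false

universe u

open CategoryTheory CategoryTheory.Limits AlgebraicGeometry TopologicalSpace Opposite
open Groth.Agent.CohBase

noncomputable section

namespace Groth.Agent.PicDefLib

variable {X : Scheme.{u}} (I : X.IdealSheafData) (hI : I * I = ⊥)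

include hI in
theorem killedByIdeal_idealMod : ClSub.KilledByIdeal I.subschemeι.ker (ClSub.idealMod I) := by
  intro U a ha m
  haveI : Mono (ClSub.idealModι I) := inferInstanceAs (Mono (kernel.ι _))
  refine RelTildeLib.app_injective_of_mono (ClSub.idealModι I) U.1 ?_
  rw [map_zero]
  refine (Scheme.Modules.Hom.app_smul (ClSub.idealModι I) a m).trans ?_
  show a * incl I U.1 m = 0
  rw [Scheme.IdealSheafData.ker_subschemeι] at ha
  refine mul_eq_zero I hI ?_ (app_idealModι I m)
  rw [← I.ker_subschemeι, Scheme.Hom.ker_apply, RingHom.mem_ker] at ha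
  exact ha

include hI in
theorem subsingleton_HH_of_pullback (n : ℕ)
    [Subsingleton (Coh.HH I.subscheme ((Scheme.Modules.pullback I.subschemeι).obj (ClSub.idealMod I)) n)] :
    Subsingleton (Coh.HH X (ClSub.idealMod I) n) := by
  haveI := OmegaAffLib.isQCoh_idealMod I
  obtain ⟨e⟩ := ClSubLib.exists_iso_push_of_killed I.subschemeι (ClSub.idealMod I) (killedByIdeal_idealMod I hI)
  let M := (Scheme.Modules.pullback I.subschemeι).obj (ClSub.idealMod I)
  haveI : Coh.IsQCoh M := PullbackMod.isQCoh_pullback I.subschemeι _
  obtain ⟨ε, -⟩ := ProperFin.exists_pushEquiv I.subschemeι (M := M)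
    (fun V hV k => affine_vanishing M (hV.preimage I.subschemeι) k) n
  haveI : Subsingleton (Coh.HH X ((Scheme.Modules.pushforward I.subschemeι).obj M) n) :=
    ε.symm.toEquiv.subsingleton
  let F := SheafOfModules.toSheaf X.ringCatSheaf
  have h : Function.LeftInverse (fun y => Sheaf.H.map (F.map e.hom) n y) (fun x => Sheaf.H.map (F.map e.inv) n x) :=
    fun x => by
      show Sheaf.H.map (F.map e.hom) n (Sheaf.H.map (F.map e.inv) n x) = x
      rw [← Sheaf.H.map_comp_apply, ← Functor.map_comp, e.inv_hom_id, CategoryTheory.Functor.map_id,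
        Sheaf.H.map_id_apply]
  exact h.injective.subsingleton

end Groth.Agent.PicDefLib
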